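import Mathlib.RingTheory.LocalRing.Module
import Mathlib.RingTheory.HopkinsLevitzki
import Mathlib.LinearAlgebra.TensorProduct.RightExactness
import Mathlib.LinearAlgebra.TensorProduct.Basis

/-!
# Modules over a local ring with nilpotent maximal ideal

Nakayama for arbitrary modules, and the detection of injectivity, surjectivity and flatness modulo
the maximal ideal.
-/

set_option autoImplicit false

universe u v w

open TensorProduct IsLocalRing

namespace Groth.ArtinFlat

variable {A : Type u} [CommRing A] [IsLocalRing A]

theorem isNilpotent_maximalIdeal [IsArtinianRing A] : IsNilpotent (maximalIdeal A) :=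
  (_root_.isArtinianRing_iff_isNilpotent_maximalIdeal A).mp ‹_›

variable (hA : IsNilpotent (maximalIdeal A))
variable {M : Type v} [AddCommGroup M] [Module A M] {N : Type w} [AddCommGroup N] [Module A N]

include hA in
theorem eq_top_of_sup {P : Submodule A M} (h : (⊤ : Submodule A M) ≤ P ⊔ maximalIdeal A • ⊤) : P = ⊤ := by
  have : ∀ n : ℕ, (⊤ : Submodule A M) ≤ P ⊔ maximalIdeal A ^ n • ⊤ := by
    intro n
    induction n with
    | zero => simp
    | succ n ih =>
      calc (⊤ : Submodule A M) ≤ P ⊔ maximalIdeal A ^ n • ⊤ := ih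
        _ ≤ P ⊔ maximalIdeal A ^ n • (P ⊔ maximalIdeal A • ⊤) :=
            sup_le_sup_left (Submodule.smul_mono le_rfl h) _
        _ ≤ P ⊔ maximalIdeal A ^ (n + 1) • ⊤ := by
            rw [Submodule.smul_sup, ← Submodule.smul_assoc, smul_eq_mul, ← pow_succ, ← sup_assoc]
            exact sup_le_sup_right (sup_le le_rfl Submodule.smul_le_right) _
  obtain ⟨n, hn⟩ := hA
  have := this n
  rw [hn, Submodule.zero_eq_bot, Submodule.bot_smul, sup_bot_eq] at this
  exact top_le_iff.mp this

include hA in
theorem surjective_of_residue (f : M →ₗ[A] N)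
    (h : Function.Surjective (f.lTensor (ResidueField A))) : Function.Surjective f := by
  rw [← LinearMap.range_eq_top]
  refine eq_top_of_sup hA fun x _ => ?_
  obtain ⟨z, hz⟩ := h (1 ⊗ₜ x)
  obtain ⟨m, rfl⟩ := TensorProduct.mk_surjective A M (ResidueField A) Ideal.Quotient.mk_surjective z
  have hk : x - f m ∈ LinearMap.ker (TensorProduct.mk A (A ⧸ maximalIdeal A) N 1) := by
    rw [LinearMap.mem_ker, map_sub, sub_eq_zero]
    exact hz.symm
  rw [LinearMap.ker_tensorProductMk] at hk
  refine Submodule.mem_sup.mpr ⟨f m, ⟨m, rfl⟩, x - f m, hk, by abel⟩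

/-- A lift of a basis of the reduction. -/
theorem exists_lift : ∃ (ι : Type (max u v)) (v : ι → M),
    LinearIndependent (ResidueField A) (fun i => (1 : ResidueField A) ⊗ₜ[A] v i) ∧
    Submodule.span (ResidueField A) (Set.range fun i => (1 : ResidueField A) ⊗ₜ[A] v i) = ⊤ := by
  let b := Module.Free.chooseBasis (ResidueField A) (ResidueField A ⊗[A] M)
  obtain ⟨v, eq⟩ := (TensorProduct.mk_surjective A M (ResidueField A) Ideal.Quotient.mk_surjective).comp_left b
  have e : (fun i => (1 : ResidueField A) ⊗ₜ[A] v i) = b := eq
  exact ⟨_, v, e ▸ b.linearIndependent, e ▸ b.span_eq⟩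

include hA in
theorem span_eq_top_of_residue {ι : Type*} (v : ι → M)
    (hv : Submodule.span (ResidueField A) (Set.range fun i => (1 : ResidueField A) ⊗ₜ[A] v i) = ⊤) :
    Submodule.span A (Set.range v) = ⊤ := by
  refine eq_top_of_sup hA ?_
  have h1 : Submodule.span A (Set.range (TensorProduct.mk A (ResidueField A) M 1 ∘ v)) = ⊤ := by
    rw [← Submodule.restrictScalars_span A (ResidueField A) Ideal.Quotient.mk_surjective]
    erw [hv]
    rfl
  rw [Set.range_comp, Submodule.span_image] at h1
  rw [← LinearMap.ker_tensorProductMk, ← Submodule.comap_map_eq]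
  intro x _
  rw [Submodule.mem_comap]
  exact h1.ge Submodule.mem_top

include hA in
theorem free_of_flat [Module.Flat A M] : Module.Free A M := by
  obtain ⟨ι, v, hli, hsp⟩ := exists_lift (A := A) (M := M)
  exact .of_basis (.mk (Module.IsLocalRing.linearIndependent_of_flat v hli) (span_eq_top_of_residue hA v hsp).ge)

include hA in
theorem injective_of_residue [Module.Flat A M] [Module.Flat A N] (f : M →ₗ[A] N)
    (h : Function.Injective (f.lTensor (ResidueField A))) : Function.Injective f := by
  obtain ⟨ι, v, hli, hsp⟩ := exists_lift (A := A) (M := M)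
  let b : Module.Basis ι A M :=
    .mk (Module.IsLocalRing.linearIndependent_of_flat v hli) (span_eq_top_of_residue hA v hsp).ge
  have hli' : LinearIndependent (ResidueField A) (fun i => (1 : ResidueField A) ⊗ₜ[A] f (v i)) :=
    hli.map' (f.baseChange (ResidueField A)) (LinearMap.ker_eq_bot.mpr h)
  have h2 : LinearIndependent A (f ∘ v) := Module.IsLocalRing.linearIndependent_of_flat _ hli'
  intro x y hxy
  apply b.repr.injective
  apply h2
  rw [← Finsupp.apply_linearCombination, ← Finsupp.apply_linearCombination]
  have hb : ∀ z, Finsupp.linearCombination A v (b.repr z) = z := fun z => by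
    rw [show v = b from (Module.Basis.coe_mk _ _).symm, b.linearCombination_repr]
  rw [hb, hb, hxy]

variable {P : Type*} [AddCommGroup P] [Module A P]

include hA in
theorem flat_of_residue [Module.Flat A N] (f : M →ₗ[A] N) (g : N →ₗ[A] P) (hfg : Function.Exact f g)
    (hg : Function.Surjective g) (h : Function.Injective (f.lTensor (ResidueField A))) :
    Module.Flat A P := by
  obtain ⟨κ, w, hwli, hwsp⟩ := exists_lift (A := A) (M := P)
  obtain ⟨μ, v, hvli, hvsp⟩ := exists_lift (A := A) (M := M)
  obtain ⟨w', hw'⟩ := hg.comp_left w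
  have hex : Function.Exact (f.baseChange (ResidueField A)) (g.baseChange (ResidueField A)) :=
    lTensor_exact (ResidueField A) hfg hg
  have hli : LinearIndependent A (Sum.elim (f ∘ v) w') := by
    refine Module.IsLocalRing.linearIndependent_of_flat _ ?_
    have e : TensorProduct.mk A (ResidueField A) N 1 ∘ Sum.elim (f ∘ v) w' =
        Sum.elim (fun i => (1 : ResidueField A) ⊗ₜ[A] f (v i)) (fun j => (1 : ResidueField A) ⊗ₜ[A] w' j) := by
      ext (i | j) <;> rfl
    rw [e]
    refine LinearIndependent.sum_type (hvli.map' (f.baseChange (ResidueField A)) (LinearMap.ker_eq_bot.mpr h))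
      (LinearIndependent.of_comp (g.baseChange (ResidueField A)) ?_) ?_
    · rw [show ⇑(g.baseChange (ResidueField A)) ∘ (fun j => (1 : ResidueField A) ⊗ₜ[A] w' j) =
          fun j => (1 : ResidueField A) ⊗ₜ[A] w j from funext fun j =>
            congrArg ((1 : ResidueField A) ⊗ₜ[A] ·) (congrFun hw' j)]
      exact hwli
    · rw [Submodule.disjoint_def]
      intro x hx hx'
      have hgx : g.baseChange (ResidueField A) x = 0 := by
        refine (Submodule.span_le (p := LinearMap.ker (g.baseChange (ResidueField A)))).mpr ?_ hx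
        rintro _ ⟨i, rfl⟩
        exact hex.apply_apply_eq_zero ((1 : ResidueField A) ⊗ₜ[A] v i)
      obtain ⟨c, rfl⟩ := (Finsupp.mem_span_range_iff_exists_finsupp).mp hx'
      rw [map_finsuppSum] at hgx
      have hc : c = 0 := by
        apply hwli
        rw [map_zero, Finsupp.linearCombination_apply]
        refine Eq.trans ?_ hgx
        refine Finsupp.sum_congr fun j _ => ?_
        rw [map_smul]
        exact congrArg (c j • ·) (congrArg ((1 : ResidueField A) ⊗ₜ[A] ·) (congrFun hw' j).symm)
      simp [hc]
  have hbot : LinearIndependent A w := by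
    rw [linearIndependent_iff]
    intro c hc
    have hm : Finsupp.linearCombination A w' c ∈ LinearMap.range f := by
      rw [← (LinearMap.exact_iff.mp hfg)]
      rw [LinearMap.mem_ker, Finsupp.apply_linearCombination, show ⇑g ∘ w' = w from hw', hc]
    obtain ⟨m, hm⟩ := hm
    obtain ⟨d, rfl⟩ := (Finsupp.mem_span_range_iff_exists_finsupp).mp
      ((span_eq_top_of_residue hA v hvsp).ge (Submodule.mem_top (x := m)))
    have h0 := linearIndependent_iff.mp hli (d.mapDomain Sum.inl + (-c).mapDomain Sum.inr) (by
      rw [map_add, Finsupp.linearCombination_mapDomain, Finsupp.linearCombination_mapDomain, Sum.elim_comp_inl,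
        Sum.elim_comp_inr, map_neg, ← hm, ← Finsupp.apply_linearCombination, ← Finsupp.linearCombination_apply,
        add_neg_cancel])
    ext j
    have := DFunLike.congr_fun h0 (Sum.inr j)
    simpa [Finsupp.mapDomain_apply Sum.inr_injective, Finsupp.mapDomain_notin_range] using this
  haveI : Module.Free A P := .of_basis (.mk hbot (span_eq_top_of_residue hA w hwsp).ge)
  exact inferInstance

end Groth.ArtinFlat
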